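import Cfsg.Agent.FG3Fix.Imprimitive

/-!
The fixed space when all abelian normal subgroups act by scalars: the endomorphism algebra
decomposes along the characters of a chief factor.
-/

set_option autoImplicit false
set_option linter.unusedSectionVars false

namespace Cfsg.Agent.FG3Fix

open Module MulAction
open scoped commutatorElement

variable {k G V : Type*} [Field k] [Group G] [AddCommGroup V] [Module k V] [FiniteDimensional k V]

/-- The elements acting by scalars. -/
def scalars (ρ : G →* Module.End k V) [Finite G] : Subgroup G where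
  carrier := {g | ∃ c : k, ρ g = c • (1 : Module.End k V)}
  one_mem' := ⟨1, by rw [map_one, one_smul]⟩
  mul_mem' := by
    rintro a b ⟨c, hc⟩ ⟨d, hd⟩
    exact ⟨c * d, by rw [map_mul, hc, hd, smul_mul_assoc, one_mul, smul_smul]⟩
  inv_mem' := by
    rintro a ⟨c, hc⟩
    refine ⟨c ^ (orderOf a - 1), ?_⟩
    have h : a⁻¹ = a ^ (orderOf a - 1) := by
      refine inv_eq_of_mul_eq_one_left ?_
      rw [← pow_succ, Nat.sub_add_cancel (orderOf_pos a), pow_orderOf_eq_one]
    rw [h, map_pow, hc, smul_pow, one_pow]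

theorem fixed_eq_scalar [Nontrivial V] {a b : k}
    (h : a • (1 : Module.End k V) = b • (1 : Module.End k V)) : a = b := by
  obtain ⟨v, hv⟩ := exists_ne (0 : V)
  exact smul_left_injective k hv (LinearMap.congr_fun h v)

/-- `[H, T] ≤ …`: the lower bound for the centraliser of an operator. -/
theorem centralizer_dim_lower (u : Module.End k V) (hu : u ≠ 1)
    (hf : 0 < finrank k ↥(LinearMap.ker (u - 1))) :
    finrank k ↥(LinearMap.ker (u - 1)) ^ 2 + 1 ≤
      finrank k ↥(LinearMap.ker (LinearMap.mulLeft k u - LinearMap.mulRight k u)) := by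
  set K := LinearMap.ker (u - 1) with hK
  set I := LinearMap.range (u - 1) with hI
  let F : ((V ⧸ I) →ₗ[k] K) →ₗ[k] Module.End k V :=
    { toFun := fun φ => K.subtype.comp (φ.comp I.mkQ)
      map_add' := fun a b => LinearMap.ext fun v => rfl
      map_smul' := fun a b => LinearMap.ext fun v => rfl }
  have hFinj : Function.Injective F := by
    intro a b h
    refine LinearMap.ext fun q => ?_
    obtain ⟨v, rfl⟩ := I.mkQ_surjective q
    exact Subtype.ext (LinearMap.congr_fun h v)
  have hdim : finrank k (LinearMap.range F) = finrank k K ^ 2 := by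
    rw [LinearMap.finrank_range_of_inj hFinj, Module.finrank_linearMap, sq]
    congr 1
    have h1 := I.finrank_quotient_add_finrank
    have h2 := LinearMap.finrank_range_add_finrank_ker (u - 1)
    rw [← hI, ← hK] at h2
    omega
  have h1not : (1 : Module.End k V) ∉ LinearMap.range F := by
    rintro ⟨φ, hφ⟩
    refine hu (LinearMap.ext fun v => ?_)
    have h2 : v ∈ K := by
      have h3 : (K.subtype.comp (φ.comp I.mkQ)) v = v := LinearMap.congr_fun hφ v
      rw [← h3]
      exact (φ (I.mkQ v)).2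
    exact sub_eq_zero.1 h2
  have hle : LinearMap.range F ⊔ Submodule.span k {(1 : Module.End k V)} ≤
      LinearMap.ker (LinearMap.mulLeft k u - LinearMap.mulRight k u) := by
    refine sup_le ?_ ((Submodule.span_singleton_le_iff_mem _ _).2 ?_)
    · rintro _ ⟨φ, rfl⟩
      refine sub_eq_zero.2 (LinearMap.ext fun v => ?_)
      show u ((φ (I.mkQ v) : V)) = (φ (I.mkQ (u v)) : V)
      have h3 : u ((φ (I.mkQ v) : V)) = (φ (I.mkQ v) : V) := sub_eq_zero.1 (φ (I.mkQ v)).2
      have h4 : I.mkQ (u v) = I.mkQ v := (Submodule.Quotient.eq I).2 ⟨v, rfl⟩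
      rw [h3, h4]
    · exact sub_eq_zero.2 (by simp)
  refine le_trans ?_ (Submodule.finrank_mono hle)
  rw [← hdim]
  refine Nat.succ_le_of_lt (Submodule.finrank_lt_finrank_of_lt ?_)
  exact left_lt_sup.2 fun h => h1not (h (Submodule.mem_span_singleton_self _))

theorem fixed_arith {p N C u f r d e : ℕ} [Fact p.Prime] (hp : 5 ≤ p) (hr : r.Prime)
    (hN : N = r ^ d) (hC : C = r ^ e) (he : 2 * e < d) (hd : 2 ≤ d) (hmod : N ≡ C [MOD p])
    (hb : p * (f ^ 2 + 1) ≤ u * (N + (p - 1) * C)) : 4 * f ^ 2 < N * u := by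
  have hpp : p.Prime := Fact.out
  set j := d - e with hj
  have hj2 : 2 ≤ j := by omega
  have hNC : N = C * r ^ j := by rw [hN, hC, ← pow_add]; congr 1; omega
  set m := r ^ j with hm
  have hC1 : 1 ≤ C := by rw [hC]; exact Nat.one_le_pow _ _ hr.pos
  have hm4 : r * r ≤ m := by
    calc r * r = r ^ 2 := (sq r).symm
      _ ≤ m := Nat.pow_le_pow_right hr.pos hj2
  have hm1 : 4 ≤ m := le_trans (Nat.mul_le_mul hr.two_le hr.two_le) hm4
  have key : 4 * (p - 1) ≤ m * (p - 4) := by
    rcases eq_or_ne r p with hrp | hrp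
    · subst hrp
      calc 4 * (r - 1) ≤ r * r := by nlinarith [Nat.sub_le r 1, hr.two_le]
        _ ≤ m := hm4
        _ ≤ m * (r - 4) := Nat.le_mul_of_pos_right _ (by omega)
    · have hcop : Nat.Coprime p C := by
        rw [hC]; exact ((Nat.coprime_primes hpp hr).2 hrp.symm).pow_right e
      have h1 : m ≡ 1 [MOD p] := by
        refine Nat.ModEq.cancel_left_of_coprime (c := C) hcop ?_
        rw [mul_one, ← hNC]; exact hmod
      obtain ⟨t, ht⟩ := (Nat.modEq_iff_dvd' (by omega)).1 h1.symm
      have ht0 : 1 ≤ t := by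
        rcases Nat.eq_zero_or_pos t with h | h
        · rw [h, mul_zero] at ht; omega
        · exact h
      have hmp : p + 1 ≤ m := by
        have : p ≤ p * t := Nat.le_mul_of_pos_right p ht0
        omega
      by_cases h11 : 11 ≤ p
      · calc 4 * (p - 1) ≤ (p + 1) * 4 := by omega
          _ ≤ m * (p - 4) := Nat.mul_le_mul hmp (by omega)
      have hp57 : p = 5 ∨ p = 7 := by
        interval_cases p <;> first | omega | exact absurd hpp (by decide)
      rcases hp57 with rfl | rfl
      · -- `m` is a proper prime power congruent to one modulo five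
        suffices 16 ≤ m by omega
        by_contra hm16
        have hr4 : r < 4 := by
          by_contra h
          have : 4 * 4 ≤ r * r := Nat.mul_le_mul (by omega) (by omega)
          omega
        have hj4 : j < 4 := by
          by_contra h
          have : 2 ^ 4 ≤ m := le_trans (Nat.pow_le_pow_right (by norm_num) (by omega))
            (Nat.pow_le_pow_left hr.two_le j)
          omega
        have h2 := hr.two_le
        interval_cases r <;> interval_cases j <;> simp only [hm] at ht hm16 <;> omega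
      · omega
  have h4 : 4 * (N + (p - 1) * C) ≤ p * N := by
    obtain ⟨q, rfl⟩ : ∃ q, p = q + 5 := ⟨p - 5, by omega⟩
    rw [show q + 5 - 1 = q + 4 from by omega, hNC]
    rw [show q + 5 - 1 = q + 4 from by omega, show q + 5 - 4 = q + 1 from by omega] at key
    nlinarith [Nat.mul_le_mul_left C key]
  refine Nat.lt_of_mul_lt_mul_left (a := p) ?_
  calc p * (4 * f ^ 2) < 4 * (p * (f ^ 2 + 1)) := by
        have := hpp.pos
        nlinarith
    _ ≤ 4 * (u * (N + (p - 1) * C)) := Nat.mul_le_mul_left 4 hb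
    _ = u * (4 * (N + (p - 1) * C)) := by ring
    _ ≤ u * (p * N) := Nat.mul_le_mul_left u h4
    _ = p * (N * u) := by ring

/-- Coordinates of a finite vector space. -/
theorem exists_coords_module (A : Type*) [AddCommGroup A] [Finite A] {r : ℕ} [Fact r.Prime]
    [Module (ZMod r) A] : ∃ (d : ℕ) (_ : A ≃+ (Fin d → ZMod r)), Nat.card A = r ^ d := by
  have hF : Module.Finite (ZMod r) A := Module.Finite.of_finite
  have b := @Module.finBasis (ZMod r) A _ _ _ _ _ hF
  refine ⟨Module.finrank (ZMod r) A, b.equivFun.toAddEquiv, ?_⟩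
  rw [Module.natCard_eq_pow_finrank (K := ZMod r), Nat.card_zmod]

/-- Coordinates on an abelian group of prime exponent. -/
theorem exists_coords_add (A : Type*) [AddCommGroup A] [Finite A] {r : ℕ} [Fact r.Prime]
    (hr : ∀ a : A, r • a = 0) :
    ∃ (d : ℕ) (_ : A ≃+ (Fin d → ZMod r)), Nat.card A = r ^ d :=
  @exists_coords_module A _ _ r _ (AddCommGroup.zmodModule hr)

/-- Coordinates on an elementary abelian group. -/
theorem exists_coords {X : Type*} [Group X] [Finite X] {r : ℕ} [Fact r.Prime] (N : Subgroup X)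
    (hc : IsMulCommutative N) (hr : ∀ y ∈ N, y ^ r = 1) :
    ∃ (d : ℕ) (_ : Additive N ≃+ (Fin d → ZMod r)), Nat.card N = r ^ d := by
  letI : CommGroup N :=
    { (inferInstance : Group N) with mul_comm := fun a b => hc.is_comm.comm a b }
  exact exists_coords_add (Additive N) fun a => by
    apply Additive.toMul.injective
    show (Additive.toMul a) ^ r = 1
    exact Subtype.ext (hr _ (Additive.toMul a).2)

variable [Finite G] [Group.IsSolvable G] [Nontrivial V]

/-- The quasiprimitive case. -/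
theorem quasiprimitive_bound {p : ℕ} [Fact p.Prime] (hp : 5 ≤ p) (ρ : G →* Module.End k V)
    (hinj : Function.Injective ρ) {x : G} (hx : orderOf x = p)
    (hgen : Subgroup.normalClosure {x} = ⊤)
    (hqp : ∀ A : Subgroup G, A.Normal → (∀ a ∈ A, ∀ b ∈ A, a * b = b * a) → A ≤ scalars ρ)
    (hsmall : ∀ (r d : ℕ) [Fact r.Prime] (σ : G →* Module.End (ZMod r) (Fin d → ZMod r)),
      Irr σ → σ x ≠ 1 → ¬ Function.Injective σ →
      2 * finrank (ZMod r) ↥(LinearMap.ker (σ x - 1)) < d) :
    2 * finrank k ↥(LinearMap.ker (ρ x - 1)) < finrank k V := by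
  classical
  have hx1 : x ≠ 1 := fun h => by
    rw [h, orderOf_one] at hx; exact (Fact.out : p.Prime).one_lt.ne hx
  have hρx : ρ x ≠ 1 := fun h => hx1 (hinj (by rw [h, map_one]))
  rcases Nat.eq_zero_or_pos (finrank k ↥(LinearMap.ker (ρ x - 1))) with hf0 | hf0
  · rw [hf0]; simpa using Module.finrank_pos
  set Z := scalars ρ with hZdef
  haveI hZn : Z.Normal := ⟨fun a ⟨c, hc⟩ g => ⟨c, by
    rw [map_mul, map_mul, hc, mul_smul_comm, mul_one, smul_mul_assoc, ← map_mul, mul_inv_cancel,
      map_one]⟩⟩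
  have hxZ : x ∉ Z := by
    rintro ⟨c, hc⟩
    have hc1 : c - 1 ≠ 0 := fun h => hρx (by rw [hc, sub_eq_zero.1 h, one_smul])
    have hker : LinearMap.ker (ρ x - 1) = ⊥ := by
      rw [eq_bot_iff]
      intro v hv
      have h : (c - 1) • v = 0 := by
        rw [sub_smul, one_smul]
        have h' : (ρ x - 1) v = 0 := hv
        rwa [hc, LinearMap.sub_apply, LinearMap.smul_apply, Module.End.one_apply] at h'
      exact (smul_eq_zero.1 h).resolve_left hc1
    rw [hker, finrank_bot] at hf0
    exact lt_irrefl _ hf0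
  haveI : Nontrivial (G ⧸ Z) := ⟨⟨(x : G ⧸ Z), 1, fun h => hxZ ((QuotientGroup.eq_one_iff x).1 h)⟩⟩
  obtain ⟨N, hNn, hN1, hmin, hNc, r, hr, hNr, hNp⟩ :=
    MinNormal.exists_elementary_abelian (G := G ⧸ Z)
  haveI := hNn
  haveI := Fact.mk hr
  set π := QuotientGroup.mk' Z with hπ
  set R := N.comap π with hR
  haveI : R.Normal := hNn.comap π
  have hZR : Z ≤ R := fun z hz => by
    show π z ∈ N
    rw [hπ, QuotientGroup.mk'_apply, (QuotientGroup.eq_one_iff z).2 hz]
    exact one_mem N
  -- the commutator form on `R`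
  have hcomm : ∀ g ∈ R, ∀ h ∈ R, ∃ c : k, ρ g * ρ h = c • (ρ h * ρ g) := by
    intro g hg h hh
    obtain ⟨c, hc⟩ : ⁅g, h⁆ ∈ Z := by
      rw [← QuotientGroup.eq_one_iff]
      show π ⁅g, h⁆ = 1
      rw [map_commutatorElement, commutatorElement_eq_one_iff_mul_comm]
      exact congrArg Subtype.val (hNc.is_comm.comm (⟨π g, hg⟩ : N) ⟨π h, hh⟩)
    refine ⟨c, ?_⟩
    have : ρ (g * h) = ρ ⁅g, h⁆ * ρ (h * g) := by rw [← map_mul]; congr 1; group
    rwa [hc, smul_mul_assoc, one_mul, map_mul, map_mul] at this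
  have huniq : ∀ (a b : k) (g h : G), a • (ρ h * ρ g) = b • (ρ h * ρ g) → a = b := by
    intro a b g h he
    have := congrArg (fun T => T * (ρ g⁻¹ * ρ h⁻¹)) he
    simp only [smul_mul_assoc, mul_assoc] at this
    rw [← mul_assoc (ρ g), ← map_mul, mul_inv_cancel, map_one, one_mul, ← map_mul,
      mul_inv_cancel, map_one] at this
    exact fixed_eq_scalar this
  let β : G → G → k := fun g h =>
    if hgh : g ∈ R ∧ h ∈ R then (hcomm g hgh.1 h hgh.2).choose else 1
  have hβ : ∀ g ∈ R, ∀ h ∈ R, ρ g * ρ h = β g h • (ρ h * ρ g) := by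
    intro g hg h hh
    simp only [β, dif_pos (And.intro hg hh)]
    exact (hcomm g hg h hh).choose_spec
  have hβeq : ∀ g ∈ R, ∀ h ∈ R, ∀ c : k, ρ g * ρ h = c • (ρ h * ρ g) → β g h = c :=
    fun g hg h hh c hc => huniq _ _ g h ((hβ g hg h hh).symm.trans hc)
  have hβ0 : ∀ g ∈ R, ∀ h ∈ R, β g h ≠ 0 := by
    intro g hg h hh h0
    have := hβ g hg h hh
    rw [h0, zero_smul, ← map_mul] at this
    have h2 := congrArg (fun T => ρ (g * h)⁻¹ * T) this
    simp only [← map_mul, inv_mul_cancel, map_one, mul_zero] at h2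
    exact one_ne_zero h2
  have hβswap : ∀ g ∈ R, ∀ h ∈ R, β h g = (β g h)⁻¹ := by
    intro g hg h hh
    refine hβeq h hh g hg _ ?_
    rw [hβ g hg h hh, smul_smul, inv_mul_cancel₀ (hβ0 g hg h hh), one_smul]
  have hβmul : ∀ g ∈ R, ∀ g' ∈ R, ∀ h ∈ R, β (g * g') h = β g h * β g' h := by
    intro g hg g' hg' h hh
    refine hβeq _ (mul_mem hg hg') h hh _ ?_
    rw [map_mul, mul_assoc, hβ g' hg' h hh, mul_smul_comm, ← mul_assoc, hβ g hg h hh,
      smul_mul_assoc, smul_smul, mul_assoc, mul_comm (β g' h)]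
  have hβz : ∀ z ∈ Z, ∀ h ∈ R, β z h = 1 := by
    intro z hz h hh
    obtain ⟨c, hc⟩ := hz
    refine hβeq z (hZR ⟨c, hc⟩) h hh 1 ?_
    rw [hc, smul_mul_assoc, one_mul, mul_smul_comm, mul_one, one_smul]
  have hβone : ∀ h ∈ R, β 1 h = 1 := hβz 1 (one_mem Z)
  have hβrad : ∀ g ∈ R, (∀ h ∈ R, β g h = 1) → g ∈ Z := by
    intro g hg hall
    have hgc : g ∈ R ⊓ Subgroup.centralizer (R : Set G) := by
      refine ⟨hg, fun h hh => ?_⟩
      refine (hinj ?_).symm
      rw [map_mul, map_mul, hβ g hg h hh, hall h hh, one_smul]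
    exact hqp (R ⊓ Subgroup.centralizer (R : Set G)) inferInstance (fun a ha b hb => (Subgroup.mem_inf.1 hb).2 a (Subgroup.mem_inf.1 ha).1) hgc
  have hβconj : ∀ (q : G), ∀ g ∈ R, ∀ h ∈ R, β (q * g * q⁻¹) (q * h * q⁻¹) = β g h := by
    intro q g hg h hh
    have hRn : R.Normal := inferInstance
    refine hβeq _ (hRn.conj_mem g hg q) _ (hRn.conj_mem h hh q) _ ?_
    have e1 : ∀ a b : G, ρ (q * a * q⁻¹) * ρ (q * b * q⁻¹) = ρ q * (ρ a * ρ b) * ρ q⁻¹ := by
      intro a b
      rw [← map_mul, ← map_mul, ← map_mul, ← map_mul]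
      congr 1; group
    rw [e1, e1, hβ g hg h hh, mul_smul_comm, smul_mul_assoc]
  have hRne : ¬ R ≤ Z := by
    intro hle
    refine hN1 (eq_bot_iff.2 fun y hy => ?_)
    obtain ⟨g, rfl⟩ := QuotientGroup.mk'_surjective Z y
    exact Subgroup.mem_bot.2 ((QuotientGroup.eq_one_iff g).2 (hle (show g ∈ R from hy)))
  -- lifts
  let l : N → G := fun a => (a : G ⧸ Z).out
  have hlπ : ∀ a : N, π (l a) = a := fun a => QuotientGroup.out_eq' _
  have hlR : ∀ a : N, l a ∈ R := fun a => by
    show π (l a) ∈ N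
    rw [hlπ]; exact a.2
  have hdep : ∀ g ∈ R, ∀ g' ∈ R, π g = π g' → ∀ h ∈ R, β g h = β g' h := by
    intro g hg g' hg' heq h hh
    have hz : g'⁻¹ * g ∈ Z := QuotientGroup.eq.1 heq.symm
    rw [show g = g' * (g'⁻¹ * g) by group, hβmul g' hg' _ (hZR hz) h hh, hβz _ hz h hh, mul_one]
  have hrk : (r : k) ≠ 0 := by
    intro h0
    haveI : CharP k r := ((CharP.charP_iff_prime_eq_zero hr).2 h0)
    refine hRne fun g hg => hβrad g hg fun h hh => ?_
    have hpow : ∀ n : ℕ, β (g ^ n) h = β g h ^ n := by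
      intro n
      induction n with
      | zero => rw [pow_zero, pow_zero, hβone h hh]
      | succ n ih => rw [pow_succ, hβmul _ (pow_mem hg n) g hg h hh, ih, pow_succ]
    have hgr : g ^ r ∈ Z := by
      rw [← QuotientGroup.eq_one_iff, QuotientGroup.mk_pow]
      exact hNr _ hg
    have h1 : (β g h - 1) ^ r = 0 := by
      rw [sub_pow_char, one_pow, ← hpow, hβz _ hgr h hh, sub_self]
    exact sub_eq_zero.1 (pow_eq_zero_iff hr.ne_zero |>.1 h1)
  haveI : Fintype N := Fintype.ofFinite N
  obtain ⟨i, hi⟩ := hNp.exists_card_eq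
  have hNk : (Fintype.card N : k) ≠ 0 := by
    rw [← Nat.card_eq_fintype_card, hi, Nat.cast_pow]
    exact pow_ne_zero _ hrk
  have hlmul : ∀ a b : N, ∀ h ∈ R, β (l (a * b)) h = β (l a) h * β (l b) h := by
    intro a b h hh
    rw [← hβmul _ (hlR a) _ (hlR b) h hh]
    refine hdep _ (hlR _) _ (mul_mem (hlR a) (hlR b)) ?_ h hh
    rw [map_mul, hlπ, hlπ, hlπ]; rfl
  have hlone : ∀ h ∈ R, β (l 1) h = 1 := fun h hh => by
    rw [hdep _ (hlR 1) 1 (one_mem R) (by rw [hlπ, map_one]; rfl) h hh, hβone h hh]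
  -- conjugation operators and the eigenspaces
  let c : G →* Module.End k (Module.End k V) :=
    { toFun := fun g => LinearMap.mulLeft k (ρ g) ∘ₗ LinearMap.mulRight k (ρ g⁻¹)
      map_one' := LinearMap.ext fun T => by simp
      map_mul' := fun a b => LinearMap.ext fun T => by
        show ρ (a * b) * (T * ρ (a * b)⁻¹) = ρ a * ((ρ b * (T * ρ b⁻¹)) * ρ a⁻¹)
        rw [mul_inv_rev, map_mul, map_mul]
        simp only [mul_assoc] }
  have hc : ∀ g T, c g T = ρ g * (T * ρ g⁻¹) := fun _ _ => rfl
  let Rop : R → Module.End k (Module.End k V) := fun h => c h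
  let ψ : N → (R → k) := fun a h => β h (l a)
  let U : N → Submodule k (Module.End k V) := fun a => weightSpace Rop (ψ a)
  have hψinj : Function.Injective ψ := by
    intro a b hab
    have hz : l (a * b⁻¹) ∈ Z := hβrad _ (hlR _) fun h hh => by
      have h1 := congrFun hab ⟨h, hh⟩
      have h2 : β (l b⁻¹) h * β (l b) h = 1 := by rw [← hlmul _ _ h hh, inv_mul_cancel, hlone h hh]
      simp only [ψ] at h1
      rw [hlmul _ _ h hh, hβswap h hh _ (hlR a), h1, ← hβswap h hh _ (hlR b), mul_comm, h2]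
    have : ((a * b⁻¹ : N) : G ⧸ Z) = 1 := by
      rw [← hlπ]; exact (QuotientGroup.eq_one_iff _).2 hz
    exact mul_inv_eq_one.1 (Subtype.ext this)
  have hind : iSupIndep U := (iSupIndep_weightSpace Rop).comp hψinj
  have hcl : ∀ (a : N) (T : Module.End k V), ∀ g ∈ R, π g = a → c g T = c (l a) T := by
    intro a T g hg hga
    obtain ⟨s, hs⟩ : (l a)⁻¹ * g ∈ Z := QuotientGroup.eq.1 (show π (l a) = π g by rw [hlπ, hga])
    have hs' : ρ g = s • ρ (l a) := by
      rw [show g = l a * ((l a)⁻¹ * g) by group, map_mul, hs, mul_smul_comm, mul_one]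
    have hs2 : ρ g⁻¹ * ρ g = 1 := by rw [← map_mul, inv_mul_cancel, map_one]
    have hs3 : s • ρ g⁻¹ = ρ (l a)⁻¹ := by
      have h5 := congrArg (fun W => W * ρ (l a)⁻¹) hs2
      simp only [hs', mul_smul_comm, smul_mul_assoc, one_mul] at h5
      rwa [mul_assoc, ← map_mul, mul_inv_cancel, map_one, mul_one] at h5
    rw [hc, hc, hs', smul_mul_assoc, ← mul_smul_comm, ← mul_smul_comm, hs3]
  have htop : ⨆ a, U a = ⊤ := by
    rw [eq_top_iff]
    intro T _
    let P : N → Module.End k V := fun a =>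
      (Fintype.card N : k)⁻¹ • ∑ b : N, (β (l b) (l a))⁻¹ • c (l b) T
    have hP : ∀ a, P a ∈ U a := by
      intro a
      refine mem_weightSpace.2 fun h => ?_
      show c (h : G) (P a) = β h (l a) • P a
      set hb : N := ⟨π h, h.2⟩ with hhb
      simp only [P, map_smul, map_sum, Finset.smul_sum]
      refine Fintype.sum_equiv (Equiv.mulLeft hb) _ _ fun b => ?_
      have e1 : c (h : G) (c (l b) T) = c (l (hb * b)) T := by
        rw [← Module.End.mul_apply, ← map_mul]
        exact hcl _ T _ (mul_mem h.2 (hlR b)) (by rw [map_mul, hlπ]; rfl)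
      have e2 : β (l (hb * b)) (l a) = β h (l a) * β (l b) (l a) := by
        rw [hlmul _ _ _ (hlR a), hdep _ (hlR hb) h h.2 (hlπ hb) _ (hlR a)]
      show (Fintype.card N : k)⁻¹ • (β (l b) (l a))⁻¹ • c (h : G) (c (l b) T) =
        β h (l a) • (Fintype.card N : k)⁻¹ • (β (l (hb * b)) (l a))⁻¹ • c (l (hb * b)) T
      have h0 : β (h : G) (l a) ≠ 0 := hβ0 _ h.2 _ (hlR a)
      rw [e1, e2, mul_inv, smul_smul, smul_smul, smul_smul]
      congr 1
      field_simp
    have hsum : ∑ a, P a = T := by
      simp only [P, ← Finset.smul_sum]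
      rw [Finset.sum_comm]
      simp only [← Finset.sum_smul]
      rw [Finset.sum_eq_single (1 : N)]
      · have h1 : ∀ a : N, (β (l 1) (l a))⁻¹ = (1 : k) := fun a => by rw [hlone _ (hlR a), inv_one]
        rw [Finset.sum_congr rfl (fun a _ => h1 a), Finset.sum_const, Finset.card_univ, nsmul_one,
          smul_smul, inv_mul_cancel₀ hNk, one_smul]
        rw [← hcl 1 T 1 (one_mem R) (map_one π), map_one, Module.End.one_apply]
      · intro b _ hb
        have hz : ∑ a : N, (β (l b) (l a))⁻¹ = 0 := by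
          obtain ⟨h, hh, hne⟩ : ∃ h ∈ R, β (l b) h ≠ 1 := by
            by_contra hall
            push_neg at hall
            have := hβrad _ (hlR b) hall
            exact hb (Subtype.ext ((hlπ b).symm.trans ((QuotientGroup.eq_one_iff _).2 this)))
          refine PrimeFPF.sum_hom_eq_zero (fun a => (β (l b) (l a))⁻¹) (fun a a' => ?_)
            (a := ⟨π h, hh⟩) ?_
          · simp only [← hβswap _ (hlR b) _ (hlR _)]
            exact hlmul a a' _ (hlR b)
          · simp only [← hβswap _ (hlR b) _ (hlR _)]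
            rw [hdep _ (hlR _) h hh (hlπ _) _ (hlR b), hβswap _ (hlR b) h hh]
            exact inv_ne_one.2 hne
        rw [hz, zero_smul]
      · exact fun h => absurd (Finset.mem_univ _) h
    rw [← hsum]
    exact Submodule.sum_mem _ fun a _ => Submodule.mem_iSup_of_mem a (hP a)
  -- all eigenspaces have the same dimension
  have hdim : ∀ a, finrank k (U a) = finrank k (U 1) := by
    intro a
    have hU1 : ∀ T, T ∈ U 1 ↔ ∀ h : R, ρ h * (T * ρ (h : G)⁻¹) = T := by
      intro T
      refine mem_weightSpace.trans (forall_congr' fun h => ?_)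
      have e : ψ 1 h = 1 := by
        simp only [ψ]; rw [hβswap _ (hlR 1) _ h.2, hlone _ h.2, inv_one]
      rw [e, one_smul]
      rfl
    have hcon : ∀ (h : R) (g : G), g ∈ R → ∀ T : Module.End k V,
        ρ h * ((ρ g * T) * ρ (h : G)⁻¹) = β h g • (ρ g * (ρ h * (T * ρ (h : G)⁻¹))) := by
      intro h g hg T
      rw [mul_assoc (ρ g), ← mul_assoc (ρ (h : G)), hβ h h.2 g hg, smul_mul_assoc, mul_assoc]
    refine le_antisymm ?_ ?_
    · refine LinearMap.finrank_le_finrank_of_injective
        (f := (LinearMap.mulLeft k (ρ (l a)⁻¹)).restrict (p := U a) (q := U 1) ?_) ?_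
      · intro T hT
        refine (hU1 _).2 fun h => ?_
        have hT' : ρ h * (T * ρ (h : G)⁻¹) = β h (l a) • T := mem_weightSpace.1 hT h
        show ρ h * ((ρ (l a)⁻¹ * T) * ρ (h : G)⁻¹) = ρ (l a)⁻¹ * T
        rw [hcon h _ (inv_mem (hlR a)), hT', mul_smul_comm, smul_smul]
        have : β (h : G) (l a)⁻¹ * β h (l a) = 1 := by
          rw [hβswap _ (inv_mem (hlR a)) _ h.2, hβswap _ (hlR a) _ h.2, ← mul_inv,
            ← hβmul _ (inv_mem (hlR a)) _ (hlR a) _ h.2, inv_mul_cancel, hβone _ h.2, inv_one]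
        rw [this, one_smul]
      · intro v w hvw
        have h2 : ρ (l a)⁻¹ * (v : Module.End k V) = ρ (l a)⁻¹ * (w : Module.End k V) :=
          congrArg Subtype.val hvw
        refine Subtype.ext ?_
        have h3 := congrArg (fun W => ρ (l a) * W) h2
        simpa only [← mul_assoc, ← map_mul, mul_inv_cancel, map_one, one_mul] using h3
    · refine LinearMap.finrank_le_finrank_of_injective
        (f := (LinearMap.mulLeft k (ρ (l a))).restrict (p := U 1) (q := U a) ?_) ?_
      · intro T hT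
        refine mem_weightSpace.2 fun h => ?_
        show ρ h * ((ρ (l a) * T) * ρ (h : G)⁻¹) = β h (l a) • (ρ (l a) * T)
        rw [hcon h _ (hlR a), (hU1 T).1 hT h]
      · intro v w hvw
        have h2 : ρ (l a) * (v : Module.End k V) = ρ (l a) * (w : Module.End k V) :=
          congrArg Subtype.val hvw
        refine Subtype.ext ?_
        have h3 := congrArg (fun W => ρ (l a)⁻¹ * W) h2
        simpa only [← mul_assoc, ← map_mul, inv_mul_cancel, map_one, one_mul] using h3
  set u := finrank k (U 1) with hu'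
  have hn2 : finrank k V * finrank k V = Fintype.card N * u := by
    rw [← Module.finrank_linearMap (R := k) (S := k) (M := V) (N := V),
      finrank_eq_sum_of_isInternal U hind htop, Finset.sum_congr rfl (fun a _ => hdim a),
      Finset.sum_const, Finset.card_univ, smul_eq_mul]
  -- the action of `x`
  set Q := Subgroup.zpowers x with hQ
  let act : Q →* MulAut N := (MulAut.conjNormal (H := N)).comp (π.comp Q.subtype)
  letI : MulAction Q N := MulAction.compHom N act
  have hsmul : ∀ (q : Q) (a : N), ((q • a : N) : G ⧸ Z) = π q * a * (π q)⁻¹ := fun q a => rfl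
  have hmap : ∀ (q : Q) (a : N), ∀ T ∈ U a, (c.comp Q.subtype) q T ∈ U (q • a) := by
    intro q a T hT
    refine mem_weightSpace.2 fun h => ?_
    have hh' : (q : G)⁻¹ * h * q ∈ R := by
      simpa using (inferInstance : R.Normal).conj_mem _ h.2 (q : G)⁻¹
    have hT' : c ((q : G)⁻¹ * h * q) T = β ((q : G)⁻¹ * h * q) (l a) • T :=
      mem_weightSpace.1 hT ⟨_, hh'⟩
    show c (h : G) (c (q : G) T) = β h (l (q • a)) • c (q : G) T
    rw [← Module.End.mul_apply, ← map_mul,
      show (h : G) * q = q * ((q : G)⁻¹ * h * q) by group, map_mul, Module.End.mul_apply, hT',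
      map_smul]
    congr 1
    have hqa : (q : G) * l a * (q : G)⁻¹ ∈ R := (inferInstance : R.Normal).conj_mem _ (hlR a) _
    rw [← hβconj q _ hh' _ (hlR a),
      show (q : G) * ((q : G)⁻¹ * h * q) * (q : G)⁻¹ = h by group,
      hβswap _ hqa _ h.2, hβswap _ (hlR _) _ h.2,
      hdep _ (hlR (q • a)) _ hqa (by rw [hlπ, hsmul, map_mul, map_mul, map_inv, hlπ]) _ h.2]
  have hxz : Nat.card Q = p := by rw [hQ, Nat.card_zpowers, hx]
  set xq : Q := ⟨x, Subgroup.mem_zpowers x⟩ with hxq
  have hb := permuted_bound (p := p) hxz xq (fun h => hx1 (congrArg Subtype.val h))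
    (c.comp Q.subtype) U hind htop hmap hdim
  have hker : LinearMap.ker ((c.comp Q.subtype) xq - 1) =
      LinearMap.ker (LinearMap.mulLeft k (ρ x) - LinearMap.mulRight k (ρ x)) := by
    ext T
    show c x T - T = 0 ↔ ρ x * T - T * ρ x = 0
    rw [sub_eq_zero, sub_eq_zero, hc]
    have e1 : ρ x⁻¹ * ρ x = 1 := by rw [← map_mul, inv_mul_cancel, map_one]
    have e2 : ρ x * ρ x⁻¹ = 1 := by rw [← map_mul, mul_inv_cancel, map_one]
    constructor
    · intro h
      have := congrArg (fun W => W * ρ x) h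
      simpa [mul_assoc, e1] using this
    · intro h
      rw [← mul_assoc, h, mul_assoc, e2, mul_one]
  rw [hker] at hb
  have hlow := centralizer_dim_lower (ρ x) hρx hf0
  set f := finrank k ↥(LinearMap.ker (ρ x - 1)) with hf
  have hb' : p * (f ^ 2 + 1) ≤ u * (Nat.card N + (p - 1) * Nat.card (fixedBy N xq)) :=
    le_trans (Nat.mul_le_mul_left p hlow) hb
  -- the chief factor as a module
  obtain ⟨d, e, hcardN⟩ := exists_coords (r := r) N hNc hNr
  let act' : G →* MulAut N := (MulAut.conjNormal (H := N)).comp π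
  let T' : G → ((Fin d → ZMod r) →+ (Fin d → ZMod r)) := fun g =>
    e.toAddMonoidHom.comp ((act' g).toMonoidHom.toAdditive.comp e.symm.toAddMonoidHom)
  let σ : G →* Module.End (ZMod r) (Fin d → ZMod r) :=
    { toFun := fun g => (T' g).toZModLinearMap r
      map_one' := LinearMap.ext fun v => by
        show DFunLike.coe e (Additive.ofMul (act' 1 (Additive.toMul (e.symm v)))) = v
        rw [map_one, MulAut.one_apply]; exact e.apply_symm_apply v
      map_mul' := fun a b => LinearMap.ext fun v => by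
        show DFunLike.coe e (Additive.ofMul (act' (a * b) (Additive.toMul (e.symm v)))) =
          DFunLike.coe e (Additive.ofMul (act' a (Additive.toMul (e.symm (DFunLike.coe e (Additive.ofMul
            (act' b (Additive.toMul (e.symm v)))))))))
        rw [e.symm_apply_apply, map_mul, MulAut.mul_apply]; rfl }
  have hσ : ∀ (g : G) (a : N), σ g (DFunLike.coe e (Additive.ofMul a)) = DFunLike.coe e (Additive.ofMul (act' g a)) := by
    intro g a
    show DFunLike.coe e (Additive.ofMul (act' g (Additive.toMul (e.symm (DFunLike.coe e (Additive.ofMul a)))))) = _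
    rw [e.symm_apply_apply]; rfl
  have hirr : Irr σ := by
    intro W hW
    let L : Subgroup (G ⧸ Z) :=
      ((W.toAddSubgroup.comap e.toAddMonoidHom).toSubgroup' : Subgroup N).map N.subtype
    have hL : ∀ a : N, (a : G ⧸ Z) ∈ L ↔ DFunLike.coe e (Additive.ofMul a) ∈ W := by
      intro a
      constructor
      · rintro ⟨b, hb, hba⟩
        obtain rfl : b = a := Subtype.ext hba
        exact hb
      · exact fun h => ⟨a, h, rfl⟩
    have hLn : L.Normal := ⟨fun y hy g => by
      obtain ⟨b, hb, rfl⟩ := hy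
      obtain ⟨g, rfl⟩ := QuotientGroup.mk'_surjective Z g
      have := hW g _ hb
      change σ g (DFunLike.coe e (Additive.ofMul b)) ∈ W at this
      rw [hσ] at this
      exact (hL (act' g b)).2 this⟩
    rcases hmin L hLn (Subgroup.map_subtype_le _) with h | h
    · refine Or.inl ((Submodule.eq_bot_iff _).2 fun w hw => ?_)
      obtain ⟨a, rfl⟩ := e.surjective w
      have h2 := (hL (Additive.toMul a)).2 hw
      rw [h, Subgroup.mem_bot] at h2
      have h3 : Additive.toMul a = 1 := Subtype.ext h2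
      rw [show a = 0 from h3, map_zero]
    · refine Or.inr (eq_top_iff.2 fun w _ => ?_)
      obtain ⟨a, rfl⟩ := e.surjective w
      exact (hL (Additive.toMul a)).1 (h.symm ▸ (Additive.toMul a).2)
  have hcyc : ∀ g ∈ R, ¬ ∀ a : N, ∃ n : ℤ, (a : G ⧸ Z) = π g ^ n := by
    intro g hg hall
    refine hRne fun h hh => hβrad h hh fun h' hh' => ?_
    obtain ⟨n, hn⟩ := hall ⟨π h, hh⟩
    obtain ⟨m, hm⟩ := hall ⟨π h', hh'⟩
    have hgn : ∀ n : ℤ, g ^ n ∈ R := fun n => zpow_mem hg n
    rw [hdep h hh (g ^ n) (hgn n) (by rw [map_zpow]; exact hn) h' hh',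
      hβswap h' hh' _ (hgn n), hdep h' hh' (g ^ m) (hgn m) (by rw [map_zpow]; exact hm) _ (hgn n)]
    rw [inv_eq_one]
    refine hβeq _ (hgn m) _ (hgn n) 1 ?_
    rw [one_smul, ← map_mul, ← map_mul, ← zpow_add, ← zpow_add, add_comm]
  have hnotcentral : ¬ (N ≤ Subgroup.center (G ⧸ Z)) := by
    intro hc'
    obtain ⟨b, hbN, hb1⟩ := (Subgroup.bot_or_exists_ne_one N).resolve_left hN1
    obtain ⟨g, rfl⟩ := QuotientGroup.mk'_surjective Z b
    have hzn : (Subgroup.zpowers (π g)).Normal := ⟨fun y hy w => by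
      rw [Subgroup.mem_center_iff.1 (hc' (Subgroup.zpowers_le.2 hbN hy)) w, mul_inv_cancel_right]
      exact hy⟩
    rcases hmin _ hzn (Subgroup.zpowers_le.2 hbN) with h | h
    · exact hb1 (Subgroup.mem_bot.1 (h ▸ Subgroup.mem_zpowers (π g)))
    · refine hcyc g hbN fun a => ?_
      have ha2 : (a : G ⧸ Z) ∈ Subgroup.zpowers (π g) := by rw [h]; exact a.2
      obtain ⟨n, hn⟩ := Subgroup.mem_zpowers_iff.1 ha2
      exact ⟨n, hn.symm⟩
  have hσx : σ x ≠ 1 := by
    intro h1
    apply hnotcentral
    intro y hy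
    have hσker : (x : G) ∈ σ.ker := h1
    have htopk : σ.ker = ⊤ := top_le_iff.1 (hgen ▸
      Subgroup.normalClosure_le_normal (Set.singleton_subset_iff.2 hσker))
    refine Subgroup.mem_center_iff.2 fun w => ?_
    obtain ⟨g, rfl⟩ := QuotientGroup.mk'_surjective Z w
    have h2 : σ g = 1 := (htopk ▸ Subgroup.mem_top g : g ∈ σ.ker)
    have h3 := hσ g ⟨y, hy⟩
    rw [h2, Module.End.one_apply] at h3
    have h4 : π g * y * (π g)⁻¹ = y := congrArg (fun a : Additive N => ((Additive.toMul a : N) : G ⧸ Z))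
      (e.injective h3).symm
    exact mul_inv_eq_iff_eq_mul.1 h4
  have hσni : ¬ Function.Injective σ := by
    intro hi'
    obtain ⟨g, hg, hgZ⟩ := SetLike.not_le_iff_exists.1 hRne
    refine hgZ ?_
    have : σ g = σ 1 := by
      refine LinearMap.ext fun v => ?_
      obtain ⟨a, rfl⟩ := e.surjective v
      have h2 : act' g (Additive.toMul a) = Additive.toMul a := Subtype.ext (by
        show π g * (Additive.toMul a : N) * (π g)⁻¹ = (Additive.toMul a : N)
        rw [show π g * (Additive.toMul a : N) = (Additive.toMul a : N) * π g from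
          congrArg Subtype.val (hNc.is_comm.comm (⟨π g, hg⟩ : N) (Additive.toMul a)),
          mul_inv_cancel_right])
      have h3 := hσ g (Additive.toMul a)
      rw [h2, ofMul_toMul] at h3
      rw [h3, map_one, Module.End.one_apply]
    rw [hi' this]
    exact one_mem Z
  have hlt := hsmall r d σ hirr hσx hσni
  set fA := finrank (ZMod r) ↥(LinearMap.ker (σ x - 1)) with hfA
  have hcardC : Nat.card (fixedBy N xq) = r ^ fA := by
    have : Nat.card (fixedBy N xq) = Nat.card ↥(LinearMap.ker (σ x - 1)) := by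
      refine Nat.card_eq_of_bijective (fun a => ⟨DFunLike.coe e (Additive.ofMul (a : N)), ?_⟩) ⟨?_, ?_⟩
      · have ha : act' x (a : N) = a := a.2
        show σ x (DFunLike.coe e (Additive.ofMul (a : N))) - DFunLike.coe e (Additive.ofMul (a : N)) = 0
        rw [hσ, ha, sub_self]
      · intro a b hab
        exact Subtype.ext (Additive.ofMul.injective (e.injective (congrArg Subtype.val hab)))
      · rintro ⟨v, hv⟩
        obtain ⟨a, rfl⟩ := e.surjective v
        refine ⟨⟨Additive.toMul a, ?_⟩, Subtype.ext rfl⟩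
        have h1 : σ x (e a) = e a := sub_eq_zero.1 hv
        have h2 := hσ x (Additive.toMul a)
        rw [ofMul_toMul, h1] at h2
        exact (congrArg Additive.toMul (e.injective h2)).symm
    rw [this, Module.natCard_eq_pow_finrank (K := ZMod r), Nat.card_zmod]
  have hd2 : 2 ≤ d := by
    by_contra hlt2
    have hd1 : d = 1 := by omega
    obtain ⟨b, hbN, hb1⟩ := (Subgroup.bot_or_exists_ne_one N).resolve_left hN1
    obtain ⟨g, rfl⟩ := QuotientGroup.mk'_surjective Z b
    refine hcyc g hbN fun a => ?_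
    obtain ⟨n, hn⟩ := Subgroup.mem_zpowers_iff.1
      (mem_zpowers_of_prime_card (p := r) (by rw [hcardN, hd1, pow_one])
        (show (⟨π g, hbN⟩ : N) ≠ 1 from fun h => hb1 (congrArg Subtype.val h)) (g' := a))
    exact ⟨n, by rw [← hn]; rfl⟩
  have hmod : Nat.card N ≡ Nat.card (fixedBy N xq) [MOD p] := by
    have hPQ : IsPGroup p Q := IsPGroup.of_card (n := 1) (by rw [hxz, pow_one])
    have h := hPQ.card_modEq_card_fixedPoints N
    have hset : fixedPoints Q N = fixedBy N xq := by
      ext a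
      refine ⟨fun h => h xq, fun h q => ?_⟩
      obtain ⟨n, hn⟩ := mem_powers_iff_mem_zpowers.2 (mem_zpowers_of_prime_card (p := p) hxz
        (show xq ≠ 1 from fun h => hx1 (congrArg Subtype.val h)) (g' := q))
      have hn' : xq ^ n = q := hn
      show q • a = a
      rw [← hn']
      exact MulAction.mem_stabilizer_iff.1 (pow_mem (MulAction.mem_stabilizer_iff.2 h) n)
    rwa [hset] at h
  have hfin := fixed_arith (p := p) hp hr hcardN hcardC hlt hd2 hmod hb'
  rw [Nat.card_eq_fintype_card, ← hn2] at hfin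
  nlinarith

end Cfsg.Agent.FG3Fix
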