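import Cfsg.Agent.FG3Fix.Primitive
import Cfsg.Agent.PrimeFPF.Linear

/-!
The fixed space when some abelian normal subgroup does not act by scalars.
-/

set_option autoImplicit false
set_option linter.unusedSectionVars false

namespace Cfsg.Agent.FG3Fix

open Module MulAction

/-- No proper nonzero invariant subspace. -/
def Irr {k G V : Type*} [Field k] [Group G] [AddCommGroup V] [Module k V]
    (ρ : G →* Module.End k V) : Prop :=
  ∀ W : Submodule k V, (∀ g, ∀ v ∈ W, ρ g v ∈ W) → W = ⊥ ∨ W = ⊤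

variable {k G V : Type*} [Field k] [Group G] [AddCommGroup V] [Module k V] [FiniteDimensional k V]

theorem comp_cancel (ρ : G →* Module.End k V) (a b : G) (v : V) : ρ a (ρ b v) = ρ (a * b) v := by
  rw [map_mul, Module.End.mul_apply]

/-- Simultaneous eigenspaces. -/
def weightSpace {A : Type*} (R : A → Module.End k V) (ψ : A → k) : Submodule k V :=
  ⨅ a, Module.End.eigenspace (R a) (ψ a)

theorem mem_weightSpace {A : Type*} {R : A → Module.End k V} {ψ : A → k} {v : V} :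
    v ∈ weightSpace R ψ ↔ ∀ a, R a v = ψ a • v := by
  simp [weightSpace, Submodule.mem_iInf, Module.End.mem_eigenspace_iff]

theorem iSupIndep_weightSpace {A : Type*} (R : A → Module.End k V) :
    iSupIndep (weightSpace R) := by
  classical
  rw [iSupIndep_iff_finset_sum_eq_zero_imp_eq_zero]
  intro s
  induction s using Finset.induction_on with
  | empty => simp
  | insert ψ₀ s hψ₀ ih =>
    intro v hv hsum ψ hψ
    rw [Finset.sum_insert hψ₀] at hsum
    have hrest : ∀ ψ ∈ s, v ψ = 0 := by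
      intro ψ hψ
      obtain ⟨a, ha⟩ : ∃ a, ψ a ≠ ψ₀ a := by
        by_contra hne
        push_neg at hne
        exact hψ₀ ((funext hne : ψ = ψ₀) ▸ hψ)
      have h1 := congrArg (fun w => R a w - ψ₀ a • w) hsum
      simp only [map_zero, smul_zero, sub_zero, map_add, smul_add, map_sum, Finset.smul_sum] at h1
      rw [add_sub_add_comm, mem_weightSpace.1 (hv ψ₀ (Finset.mem_insert_self _ _)) a, sub_self,
        zero_add, ← Finset.sum_sub_distrib] at h1
      have h2 := ih (fun φ => R a (v φ) - ψ₀ a • v φ) (fun φ hφ => by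
        have hm := hv φ (Finset.mem_insert_of_mem hφ)
        rw [mem_weightSpace.1 hm a, ← sub_smul]
        exact Submodule.smul_mem _ _ hm) h1 ψ hψ
      simp only [mem_weightSpace.1 (hv ψ (Finset.mem_insert_of_mem hψ)) a, ← sub_smul] at h2
      exact (smul_eq_zero.1 h2).resolve_left (sub_ne_zero.2 ha)
    rcases Finset.mem_insert.1 hψ with rfl | hψ
    · rwa [Finset.sum_eq_zero hrest, add_zero] at hsum
    · exact hrest ψ hψ

variable [Finite G] [Group.IsSolvable G] [IsAlgClosed k] [Nontrivial V]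

/-- The imprimitive case. -/
theorem imprimitive_bound {p : ℕ} [Fact p.Prime] (hp : 5 ≤ p) (ρ : G →* Module.End k V)
    (hirr : Irr ρ) {x : G} (hx : orderOf x = p) (hgen : Subgroup.normalClosure {x} = ⊤)
    (A : Subgroup G) [A.Normal] (hA : ∀ a b : A, Commute (ρ a) (ρ b))
    (hns : ∃ a ∈ A, ∀ c : k, ρ a ≠ c • (1 : Module.End k V)) :
    2 * finrank k ↥(LinearMap.ker (ρ x - 1)) < finrank k V := by
  classical
  obtain ⟨v₀, hv₀, heig⟩ := PrimeFPF.exists_common_eigen (ρ.comp A.subtype) hA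
  choose ψ₀ hψ₀ using heig
  let R : A → Module.End k V := fun a => ρ a
  -- conjugate weights
  have hmem : ∀ (g : G) (a : A), g⁻¹ * a * g ∈ A := fun g a => by
    simpa using (inferInstance : A.Normal).conj_mem _ a.2 g⁻¹
  let wt : G → (A → k) → (A → k) := fun g ψ a => ψ ⟨g⁻¹ * a * g, hmem g a⟩
  have hwt1 : ∀ ψ, wt 1 ψ = ψ := fun ψ => funext fun a => congrArg ψ (Subtype.ext (by simp))
  have hwtm : ∀ g h ψ, wt (g * h) ψ = wt g (wt h ψ) := fun g h ψ => funext fun a =>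
    congrArg ψ (Subtype.ext (by simp [mul_assoc]))
  have hρW : ∀ (g : G) (ψ : A → k), ∀ v ∈ weightSpace R ψ, ρ g v ∈ weightSpace R (wt g ψ) := by
    intro g ψ v hv
    rw [mem_weightSpace] at hv ⊢
    intro a
    show ρ a (ρ g v) = _
    have e : (a : G) * g = g * (g⁻¹ * a * g) := by group
    rw [comp_cancel, e, ← comp_cancel, show ρ (g⁻¹ * a * g) v = wt g ψ a • v from
      hv ⟨_, hmem g a⟩, map_smul]
  let W₀ := weightSpace R ψ₀
  have hW₀ : v₀ ∈ W₀ := mem_weightSpace.2 hψ₀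
  -- the stabiliser of the weight
  let H : Subgroup G :=
    { carrier := {g | wt g ψ₀ = ψ₀}
      one_mem' := hwt1 ψ₀
      mul_mem' := fun {a b} ha hb => by
        show wt (a * b) ψ₀ = ψ₀
        rw [hwtm, show wt b ψ₀ = ψ₀ from hb, show wt a ψ₀ = ψ₀ from ha]
      inv_mem' := fun {a} ha => by
        show wt a⁻¹ ψ₀ = ψ₀
        conv_lhs => rw [← show wt a ψ₀ = ψ₀ from ha]
        rw [← hwtm, inv_mul_cancel, hwt1] }
  have hH : H ≠ ⊤ := by
    intro htop
    obtain ⟨a, haA, ha⟩ := hns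
    have hW : W₀ = ⊤ := by
      refine (hirr W₀ fun g v hv => ?_).resolve_left fun h0 => hv₀ ((Submodule.eq_bot_iff _).1 h0 _ hW₀)
      have h1 := hρW g ψ₀ v hv
      rwa [show wt g ψ₀ = ψ₀ from (htop ▸ Subgroup.mem_top g : g ∈ H)] at h1
    refine ha (ψ₀ ⟨a, haA⟩) (LinearMap.ext fun v => ?_)
    exact mem_weightSpace.1 (hW ▸ Submodule.mem_top : v ∈ W₀) ⟨a, haA⟩
  obtain ⟨M, hM, hHM⟩ := (eq_top_or_exists_le_coatom H).resolve_left hH
  -- the blocks
  let U : G ⧸ M → Submodule k V := fun ω =>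
    ⨆ ψ ∈ {ψ : A → k | ∃ g : G, (g : G ⧸ M) = ω ∧ wt g ψ₀ = ψ}, weightSpace R ψ
  have hUmap : ∀ (g : G) (ω : G ⧸ M), ∀ v ∈ U ω, ρ g v ∈ U (g • ω) := by
    intro g ω
    have : U ω ≤ (U (g • ω)).comap (ρ g) := by
      refine iSup₂_le fun ψ hψ v hv => ?_
      obtain ⟨h, rfl, rfl⟩ := hψ
      refine Submodule.mem_iSup_of_mem (wt g (wt h ψ₀)) (Submodule.mem_iSup_of_mem ?_ (hρW g _ v hv))
      exact ⟨g * h, rfl, hwtm g h ψ₀⟩
    exact fun v hv => this hv
  have hind : iSupIndep U := by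
    intro ω
    have hle : (⨆ ω' ≠ ω, U ω') ≤ ⨆ ψ ∈ {ψ : A → k | ∃ g : G, (g : G ⧸ M) ≠ ω ∧ wt g ψ₀ = ψ},
        weightSpace R ψ := by
      refine iSup₂_le fun ω' hne => iSup₂_le fun ψ hψ => ?_
      obtain ⟨g, hg, hgψ⟩ := hψ
      exact le_iSup₂ (f := fun ψ (_ : ψ ∈ {ψ : A → k | ∃ g : G, (g : G ⧸ M) ≠ ω ∧ wt g ψ₀ = ψ}) =>
        weightSpace R ψ) ψ ⟨g, hg ▸ hne, hgψ⟩
    refine Disjoint.mono_right hle ((iSupIndep_weightSpace R).disjoint_biSup_biSup ?_)
    rw [Set.disjoint_left]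
    rintro ψ ⟨g, hg, hgψ⟩ ⟨h, hh, hhψ⟩
    apply hh
    rw [← hg, QuotientGroup.eq]
    refine hHM ?_
    show wt (h⁻¹ * g) ψ₀ = ψ₀
    rw [hwtm, hgψ, ← hhψ, ← hwtm, inv_mul_cancel, hwt1]
  have htop : ⨆ ω, U ω = ⊤ := by
    refine (hirr _ fun g v hv => ?_).resolve_left fun h0 => hv₀ ?_
    · have : (⨆ ω, U ω) ≤ (⨆ ω, U ω).comap (ρ g) :=
        iSup_le fun ω w hw => Submodule.mem_iSup_of_mem (g • ω) (hUmap g ω w hw)
      exact this hv
    · refine (Submodule.eq_bot_iff _).1 h0 v₀ (Submodule.mem_iSup_of_mem ((1 : G) : G ⧸ M) ?_)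
      exact Submodule.mem_iSup_of_mem ψ₀ (Submodule.mem_iSup_of_mem ⟨1, rfl, hwt1 ψ₀⟩ hW₀)
  have hinj : ∀ g : G, Function.Injective (ρ g) := fun g v w h => by
    have := congrArg (ρ g⁻¹) h
    rwa [comp_cancel, comp_cancel, inv_mul_cancel, map_one] at this
  have hle : ∀ (g : G) (ω : G ⧸ M), finrank k (U ω) ≤ finrank k (U (g • ω)) := by
    intro g ω
    refine LinearMap.finrank_le_finrank_of_injective
      (f := (ρ g).restrict (p := U ω) (q := U (g • ω)) (hUmap g ω)) ?_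
    intro v w h
    exact Subtype.ext (hinj g (congrArg Subtype.val h))
  set u := finrank k (U ((1 : G) : G ⧸ M)) with hu'
  have hu : ∀ ω, finrank k (U ω) = u := by
    intro ω
    obtain ⟨g, rfl⟩ := MulAction.exists_smul_eq G ((1 : G) : G ⧸ M) ω
    refine le_antisymm ?_ (hle g _)
    conv_rhs => rw [hu', ← inv_smul_smul g ((1 : G) : G ⧸ M)]
    exact hle g⁻¹ _
  haveI : Fintype (G ⧸ M) := Fintype.ofFinite _
  have hn : finrank k V = Nat.card (G ⧸ M) * u := by
    rw [finrank_eq_sum_of_isInternal U hind htop, Finset.sum_congr rfl (fun ω _ => hu ω),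
      Finset.sum_const, Finset.card_univ, smul_eq_mul, Nat.card_eq_fintype_card]
  have hxz : Nat.card (Subgroup.zpowers x) = p := by rw [Nat.card_zpowers, hx]
  have hb := permuted_bound (p := p) hxz ⟨x, Subgroup.mem_zpowers x⟩ (fun h => by
      have h1 : x = 1 := congrArg Subtype.val h
      rw [h1, orderOf_one] at hx
      exact (Fact.out : p.Prime).one_lt.ne hx)
    (ρ.comp (Subgroup.zpowers x).subtype) U hind htop (fun q ω v hv => hUmap q ω v hv) hu
  have hfix := fixedBy_coatom_bound M hM hp hx (fun hxc => hM.1 (top_le_iff.1 (hgen ▸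
    (Subgroup.normalClosure_le_normal (Set.singleton_subset_iff.2 hxc)).trans M.normalCore_le)))
  have hcu : 0 < u := by
    rcases Nat.eq_zero_or_pos u with h | h
    · rw [h, mul_zero] at hn
      exact absurd hn Module.finrank_pos.ne'
    · exact h
  have hidx : M.index = Nat.card (G ⧸ M) := rfl
  rw [hidx] at hfix
  have hfix' : Nat.card (fixedBy (G ⧸ M) (⟨x, Subgroup.mem_zpowers x⟩ : Subgroup.zpowers x)) =
      Nat.card (fixedBy (G ⧸ M) x) := rfl
  rw [hfix'] at hb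
  have hF : finrank k ↥(LinearMap.ker ((ρ.comp (Subgroup.zpowers x).subtype)
      ⟨x, Subgroup.mem_zpowers x⟩ - 1)) = finrank k ↥(LinearMap.ker (ρ x - 1)) := rfl
  rw [hF] at hb
  have hN : 0 < Nat.card (G ⧸ M) := Nat.card_pos
  rw [hn]
  refine Nat.lt_of_mul_lt_mul_left (a := p) ?_
  calc p * (2 * finrank k ↥(LinearMap.ker (ρ x - 1)))
      ≤ 2 * (u * (Nat.card (G ⧸ M) + (p - 1) * Nat.card (fixedBy (G ⧸ M) x))) := by
        rw [mul_left_comm]; exact Nat.mul_le_mul_left 2 hb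
    _ < p * (Nat.card (G ⧸ M) * u) := by
        obtain ⟨q, rfl⟩ : ∃ q, p = q + 5 := ⟨p - 5, by omega⟩
        rw [show q + 5 - 1 = q + 4 from by omega]
        nlinarith [mul_le_mul_of_nonneg_left hfix (Nat.zero_le (u * (q + 4)))]

end Cfsg.Agent.FG3Fix
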