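import Mathlib

/-!
Fixed vectors of an operator permuting the summands of a direct sum decomposition.
-/

set_option autoImplicit false

namespace Cfsg.Agent.FG3Fix

open Module MulAction

variable {k V I Q : Type*} [Field k] [AddCommGroup V] [Module k V] [FiniteDimensional k V]
  [Fintype I] [Group Q] [Finite Q] [MulAction Q I]

theorem finrank_eq_sum_of_isInternal (U : I → Submodule k V) (hind : iSupIndep U)
    (htop : ⨆ i, U i = ⊤) : finrank k V = ∑ i, finrank k (U i) := by
  classical
  have h := DirectSum.isInternal_submodule_of_iSupIndep_of_iSup_eq_top hind htop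
  rw [← (LinearEquiv.ofBijective (DirectSum.coeLinearMap U) h).finrank_eq,
    finrank_directSum]

theorem finrank_biSup_le (U : I → Submodule k V) (s : Finset I) :
    finrank k ↥(⨆ i ∈ s, U i) ≤ ∑ i ∈ s, finrank k (U i) := by
  classical
  induction s using Finset.induction_on with
  | empty =>
    have h : (⨆ i ∈ (∅ : Finset I), U i) = ⊥ := by simp
    rw [h]; simp
  | insert a s ha ih =>
    rw [Finset.iSup_insert, Finset.sum_insert ha]
    exact (Submodule.finrank_add_le_finrank_add_finrank _ _).trans (Nat.add_le_add_left ih _)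

/-- The fixed space of an element of prime order permuting equidimensional summands. -/
theorem permuted_bound {p : ℕ} [Fact p.Prime] (hQ : Nat.card Q = p) (g : Q) (hg : g ≠ 1)
    (σ : Q →* Module.End k V) (U : I → Submodule k V) (hind : iSupIndep U)
    (htop : ⨆ i, U i = ⊤) (hmap : ∀ (q : Q) (i : I), ∀ v ∈ U i, σ q v ∈ U (q • i))
    {u : ℕ} (hu : ∀ i, finrank k (U i) = u) :
    p * finrank k ↥(LinearMap.ker (σ g - 1)) ≤
      u * (Nat.card I + (p - 1) * Nat.card (fixedBy I g)) := by
  classical
  haveI : Fintype Q := Fintype.ofFinite Q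
  haveI : Fintype (Quotient (orbitRel Q I)) := Fintype.ofFinite _
  have hgen : ∀ q : Q, q ∈ Submonoid.powers g := fun q =>
    mem_powers_iff_mem_zpowers.2 (mem_zpowers_of_prime_card hQ hg)
  set S : Finset I := Finset.univ.image (fun o : Quotient (orbitRel Q I) => o.out) with hS
  have hSrep : ∀ i : I, ∃ j ∈ S, ∃ q : Q, q • j = i := by
    intro i
    refine ⟨(Quotient.mk (orbitRel Q I) i).out, Finset.mem_image.2 ⟨_, Finset.mem_univ _, rfl⟩, ?_⟩
    have := Quotient.mk_out (s := orbitRel Q I) i
    obtain ⟨q, hq⟩ := this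
    exact ⟨q⁻¹, by rw [← hq]; exact inv_smul_smul q i⟩
  set T : Submodule k V := ⨆ i ∈ Sᶜ, U i with hT
  -- no nonzero fixed vector avoids all representatives
  have hdisj : LinearMap.ker (σ g - 1) ⊓ T = ⊥ := by
    rw [eq_bot_iff]
    rintro v ⟨hv, hvT⟩
    have hv' : v ∈ LinearMap.ker (σ g - 1) := hv
    have hgv : ∀ q, σ q v = v := by
      intro q
      obtain ⟨n, rfl⟩ := hgen q
      induction n with
      | zero => simp
      | succ n ih =>
        show σ (g ^ (n + 1)) v = v
        rw [pow_succ, map_mul, Module.End.mul_apply, show σ g v = v from sub_eq_zero.1 hv']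
        exact ih
    obtain ⟨c, hc⟩ := (Submodule.mem_iSup_iff_exists_dfinsupp' (fun i => ⨆ _ : i ∈ Sᶜ, U i) v).1 hvT
    let d : I → V := fun i => (c i : V)
    have hdU : ∀ i, d i ∈ U i := fun i => (iSup_le fun _ => le_rfl : (⨆ _ : i ∈ Sᶜ, U i) ≤ U i) (c i).2
    have hdS : ∀ i ∈ S, d i = 0 := fun i hi => by
      have h2 : (⨆ _ : i ∈ Sᶜ, U i) = ⊥ := by
        rw [iSup_neg]; simpa using hi
      have h3 := (c i).2
      exact (Submodule.mem_bot k).1 (h2.le h3)
    have hsum : ∑ i, d i = v := by
      rw [← hc, DFinsupp.sum, ← Finset.sum_subset (Finset.subset_univ c.support)]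
      intro i _ hi
      simpa [d] using DFinsupp.notMem_support_iff.1 hi
    have hperm : ∀ q i, d (q • i) = σ q (d i) := by
      intro q
      let e : I → V := fun j => σ q (d (q⁻¹ • j)) - d j
      have he : ∀ j ∈ (Finset.univ : Finset I), e j ∈ U j := fun j _ => by
        refine Submodule.sub_mem _ ?_ (hdU j)
        have := hmap q _ _ (hdU (q⁻¹ • j))
        rwa [smul_inv_smul] at this
      have he0 : ∑ j, e j = 0 := by
        have hre : ∑ x, d (q⁻¹ • x) = ∑ x, d x :=
          Equiv.sum_comp (MulAction.toPerm (q⁻¹ : Q)) d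
        rw [Finset.sum_sub_distrib, hsum, ← map_sum, hre, hsum, hgv, sub_self]
      intro i
      have := (iSupIndep_iff_finset_sum_eq_zero_imp_eq_zero U).1 hind Finset.univ e he he0 (q • i)
        (Finset.mem_univ _)
      simp only [e, inv_smul_smul] at this
      exact (sub_eq_zero.1 this).symm
    have hd0 : ∀ i, d i = 0 := by
      intro i
      obtain ⟨j, hj, q, rfl⟩ := hSrep i
      rw [hperm, hdS j hj, map_zero]
    simp [← hsum, hd0]
  have hcover : (⨆ i ∈ S, U i) ⊔ T = ⊤ := by
    rw [eq_top_iff, ← htop]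
    refine iSup_le fun i => ?_
    by_cases hi : i ∈ S
    · exact le_sup_of_le_left (le_iSup₂ (f := fun i (_ : i ∈ S) => U i) i hi)
    · exact le_sup_of_le_right (le_iSup₂ (f := fun i (_ : i ∈ Sᶜ) => U i) i (Finset.mem_compl.2 hi))
  have h1 := Submodule.finrank_add_le_finrank_add_finrank (⨆ i ∈ S, U i) T
  rw [hcover, finrank_top] at h1
  have h2 := Submodule.finrank_sup_add_finrank_inf_eq (LinearMap.ker (σ g - 1)) T
  rw [hdisj, finrank_bot, add_zero] at h2
  have h2' := Submodule.finrank_le (LinearMap.ker (σ g - 1) ⊔ T)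
  have h3 : finrank k ↥(⨆ i ∈ S, U i) ≤ S.card * u := by
    refine (finrank_biSup_le U S).trans ?_
    rw [Finset.sum_congr rfl (fun i _ => hu i), Finset.sum_const, smul_eq_mul]
  -- counting the orbits
  have hb := MulAction.sum_card_fixedBy_eq_card_orbits_mul_card_group Q I
  rw [← Finset.add_sum_erase _ _ (Finset.mem_univ (1 : Q))] at hb
  have hfix : ∀ q ∈ Finset.univ.erase (1 : Q), Fintype.card (fixedBy I q) = Nat.card (fixedBy I g) := by
    intro q hq
    rw [← Nat.card_eq_fintype_card]
    congr 2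
    ext i
    have hq1 : q ≠ 1 := Finset.ne_of_mem_erase hq
    constructor
    · intro hi
      obtain ⟨n, hn⟩ := mem_powers_iff_mem_zpowers.2 (mem_zpowers_of_prime_card hQ hq1 : g ∈ _)
      have hn' : q ^ n = g := hn
      show g • i = i
      rw [← hn']
      have hi' : i ∈ fixedBy I q := hi
      exact (MulAction.mem_stabilizer_iff.1 (pow_mem (MulAction.mem_stabilizer_iff.2 hi') n))
    · intro hi
      obtain ⟨n, hn⟩ := hgen q
      have hn' : g ^ n = q := hn
      show q • i = i
      rw [← hn']
      exact (MulAction.mem_stabilizer_iff.1 (pow_mem (MulAction.mem_stabilizer_iff.2 hi) n))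
  rw [Finset.sum_congr rfl hfix, Finset.sum_const, Finset.card_erase_of_mem (Finset.mem_univ _),
    Finset.card_univ, smul_eq_mul, ← Nat.card_eq_fintype_card (α := fixedBy I (1 : Q)),
    ← Nat.card_eq_fintype_card (α := Q), hQ, fixedBy_one_eq_univ, Nat.card_univ] at hb
  have hScard : S.card ≤ Fintype.card (Quotient (orbitRel Q I)) := Finset.card_image_le
  calc p * finrank k ↥(LinearMap.ker (σ g - 1)) ≤ p * (S.card * u) :=
        Nat.mul_le_mul_left p (by omega)
    _ ≤ p * (Fintype.card (Quotient (orbitRel Q I)) * u) :=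
        Nat.mul_le_mul_left p (Nat.mul_le_mul_right u hScard)
    _ = u * (Nat.card I + (p - 1) * Nat.card (fixedBy I g)) := by rw [hb]; ring

end Cfsg.Agent.FG3Fix
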