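import Cfsg.Agent.FG3Fix.Permuted
import Cfsg.Agent.Lib.MinimalNormal

/-!
An element of prime order at least five in a primitive solvable group fixes at most a fifth of
the points.
-/

set_option autoImplicit false
set_option linter.unusedSectionVars false

namespace Cfsg.Agent.FG3Fix

open MulAction Subgroup

/-- Faithful primitive case. -/
theorem fixedBy_bound_faithful {G Ω : Type*} [Group G] [Finite G] [Group.IsSolvable G]
    [MulAction G Ω] [MulAction.IsPretransitive G Ω] [FaithfulSMul G Ω] (ω₀ : Ω)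
    (hM : IsCoatom (stabilizer G ω₀)) {p : ℕ} [Fact p.Prime] (hp : 5 ≤ p) {x : G}
    (hx : orderOf x = p) : 5 * Nat.card (fixedBy Ω x) ≤ Nat.card Ω := by
  classical
  haveI : Finite Ω := Finite.of_surjective (fun g : G => g • ω₀) (fun ω => exists_smul_eq G ω₀ ω)
  haveI : Fintype Ω := Fintype.ofFinite Ω
  rcases isEmpty_or_nonempty (fixedBy Ω x) with he | ⟨⟨ω₁, hω₁⟩⟩
  · simp
  haveI : Nontrivial G := ⟨⟨x, 1, fun h => (Fact.out : p.Prime).one_lt.ne (by rw [← hx, h, orderOf_one])⟩⟩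
  obtain ⟨N, hNn, hN1, hmin, hNc, r, hr, hNr, hNp⟩ := MinNormal.exists_elementary_abelian (G := G)
  haveI := hNn
  have hM₁ : IsCoatom (stabilizer G ω₁) := by
    obtain ⟨g, rfl⟩ := exists_smul_eq G ω₀ ω₁
    rw [stabilizer_smul_eq_stabilizer_map_conj]
    exact (OrderIso.isCoatom_iff (MulAut.conj g).mapSubgroup (stabilizer G ω₀)).2 hM
  set M := stabilizer G ω₁ with hMdef
  -- `N` is regular
  have hNM : ¬ N ≤ M := fun hle => hN1 (eq_bot_iff.2 fun n hn => by
    refine mem_bot.2 (FaithfulSMul.eq_of_smul_eq_smul (α := Ω) fun ω => ?_)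
    obtain ⟨g, rfl⟩ := exists_smul_eq G ω₁ ω
    have h := hle (hNn.conj_mem n hn g⁻¹)
    rw [hMdef, mem_stabilizer_iff, inv_inv, mul_smul, mul_smul, inv_smul_eq_iff] at h
    rw [h, one_smul])
  have hMN : M ⊔ N = ⊤ := hM₁.2 _ (lt_of_le_of_ne le_sup_left fun h => hNM (h ▸ le_sup_right))
  have htrans : ∀ ω : Ω, ∃ n ∈ N, n • ω₁ = ω := by
    intro ω
    obtain ⟨g, rfl⟩ := exists_smul_eq G ω₁ ω
    have hg : g ∈ ((N ⊔ M : Subgroup G) : Set G) := by rw [sup_comm, hMN]; exact mem_top g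
    rw [normal_mul] at hg
    obtain ⟨n, hn, m, hm, rfl⟩ := Set.mem_mul.1 hg
    exact ⟨n, hn, by rw [mul_smul, show m • ω₁ = ω₁ from hm]⟩
  have hreg : ∀ n ∈ N, n • ω₁ = ω₁ → n = 1 := by
    intro n hn h
    refine FaithfulSMul.eq_of_smul_eq_smul (α := Ω) fun ω => ?_
    obtain ⟨a, ha, rfl⟩ := htrans ω
    have hc : n * a = a * n := congrArg Subtype.val (hNc.is_comm.comm (⟨n, hn⟩ : N) ⟨a, ha⟩)
    rw [← mul_smul, hc, mul_smul, h, one_smul]
  let e : N → Ω := fun n => (n : G) • ω₁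
  have he : Function.Bijective e := by
    refine ⟨fun a b hab => ?_, fun ω => ?_⟩
    · have : ((b : G)⁻¹ * a) • ω₁ = ω₁ := by
        rw [mul_smul, show (a : G) • ω₁ = (b : G) • ω₁ from hab, inv_smul_smul]
      exact Subtype.ext (inv_mul_eq_one.1 (hreg _ (mul_mem (inv_mem b.2) a.2) this)).symm
    · obtain ⟨n, hn, h⟩ := htrans ω
      exact ⟨⟨n, hn⟩, h⟩
  have hcardΩ : Nat.card Ω = Nat.card N := (Nat.card_eq_of_bijective e he).symm
  -- fixed points are the centraliser of `x` in `N`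
  set C := N ⊓ centralizer ({x} : Set G) with hC
  have hxω : x • ω₁ = ω₁ := hω₁
  have hfix : ∀ n ∈ N, (n • ω₁ ∈ fixedBy Ω x ↔ n ∈ C) := by
    intro n hn
    constructor
    · intro h
      refine ⟨hn, mem_centralizer_singleton_iff.2 ?_⟩
      have h' : x • n • ω₁ = n • ω₁ := h
      have : (n⁻¹ * (x * n * x⁻¹)) • ω₁ = ω₁ := by
        rw [mul_smul, mul_smul, mul_smul, show x⁻¹ • ω₁ = ω₁ from inv_smul_eq_iff.2 hxω.symm, h',
          inv_smul_smul]
      have := inv_mul_eq_one.1 (hreg _ (mul_mem (inv_mem hn) (hNn.conj_mem n hn x)) this)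
      conv_lhs => rw [this]
      group
    · intro h
      show x • n • ω₁ = n • ω₁
      rw [← mul_smul, ← mem_centralizer_singleton_iff.1 h.2, mul_smul, hxω]
  have hcardF : Nat.card (fixedBy Ω x) = Nat.card C := by
    refine (Nat.card_eq_of_bijective
      (fun c : C => (⟨(c : G) • ω₁, (hfix _ c.2.1).2 c.2⟩ : fixedBy Ω x)) ⟨?_, ?_⟩).symm
    · intro a b hab
      exact Subtype.ext (congrArg Subtype.val (he.1 (a₁ := ⟨a, a.2.1⟩) (a₂ := ⟨b, b.2.1⟩)
        (congrArg Subtype.val hab)) :)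
    · rintro ⟨ω, hω⟩
      obtain ⟨n, hn, rfl⟩ := htrans ω
      exact ⟨⟨n, (hfix n hn).1 hω⟩, rfl⟩
  have hCN : C ≤ N := inf_le_left
  have hne : C ≠ N := by
    intro hCeq
    have hxc : ∀ n ∈ N, n * x = x * n := fun n hn =>
      mem_centralizer_singleton_iff.1 ((hCeq ▸ hn : n ∈ C).2)
    have : x = 1 := FaithfulSMul.eq_of_smul_eq_smul (α := Ω) fun ω => by
      obtain ⟨n, hn, rfl⟩ := htrans ω
      rw [one_smul, ← mul_smul, ← hxc n hn, mul_smul, hxω]
    rw [this, orderOf_one] at hx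
    exact (Fact.out : p.Prime).one_lt.ne hx
  haveI := Fact.mk hr
  obtain ⟨i, hi⟩ := hNp.exists_card_eq
  obtain ⟨t, ht⟩ := card_dvd_of_le hCN
  have hmod : Nat.card Ω ≡ Nat.card (fixedBy Ω x) [MOD p] := by
    have hP : IsPGroup p (zpowers x) := IsPGroup.of_card (n := 1) (by rw [Nat.card_zpowers, hx, pow_one])
    have h := hP.card_modEq_card_fixedPoints Ω
    have hset : fixedPoints (zpowers x) Ω = fixedBy Ω x := by
      ext ω
      exact ⟨fun h => h ⟨x, mem_zpowers x⟩, fun h g =>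
        (zpowers_le.2 (show x ∈ stabilizer G ω from h) g.2 : (g : G) ∈ stabilizer G ω)⟩
    rwa [hset] at h
  rw [hcardΩ, hcardF] at hmod ⊢
  have ht1 : t ≠ 1 := fun h => hne (eq_of_le_of_card_ge hCN (by rw [ht, h, mul_one]))
  rw [ht]
  rw [mul_comm 5]
  refine Nat.mul_le_mul_left _ ?_
  obtain ⟨s, -, hs⟩ := (Nat.dvd_prime_pow hr).1 (hi ▸ Dvd.intro_left _ ht.symm : t ∣ r ^ i)
  obtain ⟨j, -, hj⟩ := (Nat.dvd_prime_pow hr).1 (hi ▸ card_dvd_of_le hCN : Nat.card C ∣ r ^ i)
  have hs0 : s ≠ 0 := fun h => ht1 (by rw [hs, h, pow_zero])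
  rcases eq_or_ne r p with hrp | hrp
  · rw [hs]
    exact le_trans (hp.trans hrp.symm.le) (Nat.le_self_pow hs0 r)
  · have hcop : Nat.Coprime p (Nat.card C) := by
      rw [hj]; exact ((Nat.coprime_primes Fact.out hr).2 hrp.symm).pow_right j
    have h1 : t ≡ 1 [MOD p] := by
      refine Nat.ModEq.cancel_left_of_coprime (c := Nat.card C) hcop ?_
      rw [← ht, mul_one]
      exact hmod
    have hpd : p ∣ t - 1 := (Nat.modEq_iff_dvd' (by
      rw [hs]; exact Nat.one_le_pow _ _ hr.pos)).1 h1.symm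
    rcases Nat.eq_zero_or_pos (t - 1) with h0 | h0
    · have : 1 ≤ t := by rw [hs]; exact Nat.one_le_pow _ _ hr.pos
      omega
    · have := Nat.le_of_dvd h0 hpd
      omega

/-- An element acting nontrivially on the cosets of a maximal subgroup. -/
theorem fixedBy_coatom_bound {G : Type*} [Group G] [Finite G] [Group.IsSolvable G]
    (M : Subgroup G) (hM : IsCoatom M) {p : ℕ} [Fact p.Prime] (hp : 5 ≤ p) {x : G}
    (hx : orderOf x = p) (hxM : x ∉ M.normalCore) :
    5 * Nat.card (fixedBy (G ⧸ M) x) ≤ M.index := by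
  classical
  let Q : Subgroup (Equiv.Perm (G ⧸ M)) := (MulAction.toPermHom G (G ⧸ M)).range
  let f : G →* Q := (MulAction.toPermHom G (G ⧸ M)).rangeRestrict
  have hfs : Function.Surjective f := MonoidHom.rangeRestrict_surjective _
  have hfact : ∀ (g : G) (ω : G ⧸ M), f g • ω = g • ω := fun _ _ => rfl
  haveI : Group.IsSolvable Q := Group.isSolvable_of_surjective hfs
  haveI : FaithfulSMul Q (G ⧸ M) :=
    ⟨fun {a b} h => Subtype.ext (Equiv.ext fun ω => h ω)⟩
  haveI : MulAction.IsPretransitive Q (G ⧸ M) := ⟨fun a b => by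
    obtain ⟨g, hg⟩ := exists_smul_eq G a b
    exact ⟨f g, by rw [hfact, hg]⟩⟩
  have hker : f.ker ≤ M := by
    intro g hg
    have h1 : g • ((1 : G) : G ⧸ M) = ((1 : G) : G ⧸ M) := by
      rw [← hfact, MonoidHom.mem_ker.1 hg, one_smul]
    rw [MulAction.Quotient.smul_mk, smul_eq_mul, mul_one, QuotientGroup.eq] at h1
    simpa using h1
  have hst : stabilizer Q ((1 : G) : G ⧸ M) = M.map f := by
    ext q
    obtain ⟨g, rfl⟩ := hfs q
    constructor
    · intro h
      refine ⟨g, ?_, rfl⟩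
      have h1 : g • ((1 : G) : G ⧸ M) = ((1 : G) : G ⧸ M) := (hfact g _).symm.trans h
      rw [MulAction.Quotient.smul_mk, smul_eq_mul, mul_one, QuotientGroup.eq] at h1
      simpa using h1
    · rintro ⟨m, hm, hmg⟩
      rw [← hmg, mem_stabilizer_iff, hfact]
      show m • ((1 : G) : G ⧸ M) = ((1 : G) : G ⧸ M)
      rw [MulAction.Quotient.smul_mk, smul_eq_mul, mul_one, QuotientGroup.eq]
      simpa using hm
  have hco : IsCoatom (stabilizer Q ((1 : G) : G ⧸ M)) := by
    rw [hst]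
    refine ⟨fun h => hM.1 ?_, fun Y hY => ?_⟩
    · rw [← comap_map_eq_self hker, h, comap_top]
    · have h1 : M < Y.comap f :=
        lt_of_le_of_lt (le_comap_map f M) ((comap_lt_comap_of_surjective hfs).2 hY)
      rw [← map_comap_eq_self_of_surjective hfs Y, hM.2 _ h1, map_top_of_surjective f hfs]
  have hfx : orderOf (f x) = p := by
    refine orderOf_eq_prime (by rw [← map_pow, ← hx, pow_orderOf_eq_one, map_one]) fun h1 => hxM ?_
    rw [normalCore_eq_ker]
    exact congrArg Subtype.val h1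
  exact fixedBy_bound_faithful (G := Q) ((1 : G) : G ⧸ M) hco hp hfx

end Cfsg.Agent.FG3Fix
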